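import Mathlib

/-!
# Descent of global functions along faithfully flat quasi-compact morphisms
-/

set_option autoImplicit false
noncomputable section

open CategoryTheory CategoryTheory.Limits AlgebraicGeometry

namespace FnDesc19

universe u

/-- The coordinate ring of the affine line over `ℤ`. -/
abbrev R : CommRingCat.{u} := CommRingCat.of (Polynomial (ULift.{u} ℤ))

/-- Evaluation at `s`. -/
def evalAt {A : CommRingCat.{u}} (s : A) : R ⟶ A :=
  CommRingCat.ofHom (Polynomial.eval₂RingHom
    ((Int.castRingHom A).comp (ULift.ringEquiv : ULift.{u} ℤ ≃+* ℤ).toRingHom) s)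

theorem evalAt_X {A : CommRingCat.{u}} (s : A) : evalAt s Polynomial.X = s := Polynomial.eval₂_X _ _

theorem hom_eq_evalAt {A : CommRingCat.{u}} (φ : R ⟶ A) : φ = evalAt (φ Polynomial.X) := by
  apply CommRingCat.hom_ext
  refine Polynomial.ringHom_ext' ?_ (Polynomial.eval₂_X _ _).symm
  exact RingHom.ext fun n => by
    obtain ⟨n⟩ := n
    have h1 : ((ULift.up n : ULift.{u} ℤ)) = (n : ULift.{u} ℤ) := ULift.ext _ _ (by simp)
    rw [h1, map_intCast, map_intCast]

theorem evalAt_comp {A B : CommRingCat.{u}} (s : A) (g : A ⟶ B) : evalAt s ≫ g = evalAt (g s) := by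
  rw [hom_eq_evalAt (evalAt s ≫ g)]
  congr 1
  show g (evalAt s Polynomial.X) = g s
  rw [evalAt_X]

/-- A global function as a morphism to the affine line. -/
def toLine {X : Scheme.{u}} (s : Γ(X, ⊤)) : X ⟶ Spec R := X.toSpecΓ ≫ Spec.map (evalAt s)

theorem comp_toLine {X Y : Scheme.{u}} (f : X ⟶ Y) (s : Γ(Y, ⊤)) :
    f ≫ toLine s = toLine (f.appTop s) := by
  rw [toLine, toLine, ← Category.assoc, Scheme.toSpecΓ_naturality, Category.assoc, ← Spec.map_comp,
    evalAt_comp]

/-- A morphism to the affine line as a global function. -/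
def ofLine {X : Scheme.{u}} (g : X ⟶ Spec R) : Γ(X, ⊤) :=
  ((Scheme.ΓSpecIso R).inv ≫ g.appTop) Polynomial.X

theorem toLine_ofLine {X : Scheme.{u}} (g : X ⟶ Spec R) : toLine (ofLine g) = g := by
  rw [toLine, ofLine, ← hom_eq_evalAt, Spec.map_comp, ← Category.assoc, ← Scheme.toSpecΓ_naturality,
    Category.assoc, toSpecΓ_SpecMap_ΓSpecIso_inv, Category.comp_id]

theorem ofLine_toLine {X : Scheme.{u}} (s : Γ(X, ⊤)) : ofLine (toLine s) = s := by
  rw [ofLine, toLine, Scheme.Hom.comp_appTop, ← Category.assoc, ← Scheme.ΓSpecIso_inv_naturality,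
    Category.assoc, Scheme.toSpecΓ_appTop, Iso.inv_hom_id, Category.comp_id, evalAt_X]

theorem toLine_injective {X : Scheme.{u}} : Function.Injective (toLine (X := X)) :=
  Function.LeftInverse.injective ofLine_toLine

/-- Functions descend along an effective epimorphism with given kernel pair. -/
theorem appTop_injective_and_range {X Y P : Scheme.{u}} (f : X ⟶ Y) [EffectiveEpi f]
    (p q : P ⟶ X) (h : IsPullback p q f f) :
    Function.Injective f.appTop ∧
      Set.range f.appTop = {s : Γ(X, ⊤) | p.appTop s = q.appTop s} := by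
  refine ⟨fun s t hst => toLine_injective ((cancel_epi f).1 ?_), Set.ext fun s => ⟨?_, fun hs => ?_⟩⟩
  · rw [comp_toLine, comp_toLine, hst]
  · rintro ⟨t, rfl⟩
    show p.appTop (f.appTop t) = q.appTop (f.appTop t)
    rw [← CommRingCat.comp_apply, ← CommRingCat.comp_apply, ← Scheme.Hom.comp_appTop,
      ← Scheme.Hom.comp_appTop, h.w]
  · have hw : ∀ {Z : Scheme.{u}} (g₁ g₂ : Z ⟶ X), g₁ ≫ f = g₂ ≫ f →
        g₁ ≫ toLine s = g₂ ≫ toLine s := by
      intro Z g₁ g₂ hg
      have e : p ≫ toLine s = q ≫ toLine s := by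
        rw [comp_toLine, comp_toLine]
        exact congrArg toLine hs
      conv_lhs => rw [← h.lift_fst g₁ g₂ hg]
      conv_rhs => rw [← h.lift_snd g₁ g₂ hg]
      rw [Category.assoc, Category.assoc, e]
    refine ⟨ofLine (EffectiveEpi.desc f (toLine s) hw), toLine_injective ?_⟩
    rw [← comp_toLine, toLine_ofLine, EffectiveEpi.fac]

end FnDesc19
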